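import Groth.Agent.PowRegLib.System
import Groth.Agent.GrSysLib.Coh
import Groth.Agent.VBResLib.GGen
import Groth.Agent.MumfordLib.Induct
import Groth.Agent.PnCohLib.Serre
import Groth.Agent.FormalCohLib.ProjAmple
import Groth.Agent.NumTrivLib.Tau

/-!
# Linear bounds for the regularity of powers of an ideal sheaf with globally generated twist
-/

set_option autoImplicit false
set_option linter.style.haveILetI false
set_option maxHeartbeats 1000000
set_option backward.isDefEq.respectTransparency false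
set_option backward.isDefEq.respectTransparency.types false
universe u

open CategoryTheory CategoryTheory.Limits AlgebraicGeometry TopologicalSpace Opposite
open AmpleLib (shT res GenOn)
open CubeConsLib (cl cl_tensor cl_eq_iff)

noncomputable section

namespace PowRegLib

/-- Sections generating `I ⊗ F`. -/
theorem exists_gens {X : Scheme.{u}} [IsLocallyNoetherian X] [CompactSpace X] {F : X.Modules}
    (hF : PicF.IsInvertible F) (I : X.IdealSheafData)
    (hg : Curv2.IsGloballyGenerated (CohB1.tensorMod (ClSub.idealMod I) F)) :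
    ∃ (m : ℕ) (s : Fin m → Γ(F, ⊤)), Gens s I := by
  let M := CohB1.tensorMod (ClSub.idealMod I) F
  have hM : Coh.IsCoh M := SerreVanLib.isCoh_tensor (SurfExtLib.isCoh_idealMod I) hF
  haveI := hM.1
  obtain ⟨m, q, hq⟩ := VBResLib.exists_epi_free_of_gg hM hg
  let f : Fin m → (Coh.structureModule X ⟶ M) := fun i => Sigma.ι (fun _ : Fin m => Coh.structureModule X) i ≫ q
  let σ : Fin m → Γ(M, ⊤) := fun i => (f i).app ⊤ (show Γ(Coh.structureModule X, ⊤) from (1 : Γ(X, ⊤)))
  refine ⟨m, fun i => (valHom I F).app ⊤ (σ i), fun G a ha => ?_⟩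
  have hco : ∀ t : Γ(ClSub.idealMod I, G.W.1),
      (valHom I F).app G.W.1 (shT t G.e) = val I t • G.e := fun t => valHom_shT I F t G.e
  have hres : ∀ i, res F le_top ((valHom I F).app ⊤ (σ i)) = (valHom I F).app G.W.1 (res M le_top (σ i)) := fun i =>
    (QCohLib.app_map (valHom I F) (homOfLE (le_top : G.W.1 ≤ ⊤)) (σ i)).symm
  have hg1 : Function.Injective fun c : Γ(X, G.W.1) => c • G.e := by
    simpa only [AmpleLib.res_refl] using (G.gen G.W.1 le_rfl).1
  apply le_antisymm
  · refine Ideal.span_le.2 ?_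
    rintro _ ⟨i, rfl⟩
    obtain ⟨t, ht⟩ := (ExtTwistLib.shT_right_bijective G.gen).2 (res M le_top (σ i))
    have h : a i = val I t := hg1 (show a i • G.e = val I t • G.e by rw [ha i, hres i, ← ht, hco])
    exact h ▸ GenFlatStrat.idealModι_mem I G.W t
  · intro c hc
    obtain ⟨t, ht⟩ := GenFlatStrat.exists_idealMod_section I G.W c hc
    haveI := NefH1Lib.isQCoh_biprod_unit (X := X) (Fin m)
    let q' : (⨁ fun _ : Fin m => Coh.structureModule X) ⟶ M := (biproduct.isoCoproduct _).hom ≫ q
    haveI : Epi q' := epi_comp _ _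
    obtain ⟨z, hz⟩ := FormalLib.app_surjective_of_epi _ q' G.W.2 (shT t G.e)
    have hq' : q' = ∑ i, biproduct.π (fun _ : Fin m => Coh.structureModule X) i ≫ f i := by
      refine biproduct.hom_ext' _ _ fun j => ?_
      rw [Preadditive.comp_sum, Finset.sum_eq_single j]
      · simp [q', f]
      · intro b _ hb
        rw [← Category.assoc, biproduct.ι_π_ne _ hb.symm, zero_comp]
      · exact fun h => absurd (Finset.mem_univ j) h
    let b : Fin m → Γ(X, G.W.1) := fun i => (biproduct.π (fun _ : Fin m => Coh.structureModule X) i).app G.W.1 z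
    have hfi : ∀ i, (f i).app G.W.1 (show Γ(Coh.structureModule X, G.W.1) from b i) = b i • res M le_top (σ i) := by
      intro i
      have h1 : (f i).app G.W.1 (show Γ(Coh.structureModule X, G.W.1) from (1 : Γ(X, G.W.1))) = res M le_top (σ i) := by
        refine Eq.trans ?_ (QCohLib.app_map (f i) (homOfLE (le_top : G.W.1 ≤ ⊤)) _)
        exact congrArg ((f i).app G.W.1) (map_one (X.presheaf.map (homOfLE (le_top : G.W.1 ≤ ⊤)).op).hom).symm
      rw [← h1, ← QCohLib.app_smul]
      exact congrArg ((f i).app G.W.1) (mul_one (b i)).symm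
    have hsum : ∑ i, b i • res M le_top (σ i) = shT t G.e := by
      rw [← hz, hq', GrSysLib.secMap_sum]
      exact Finset.sum_congr rfl fun i _ => (hfi i).symm
    have h2 := congrArg ((valHom I F).app G.W.1) hsum
    rw [hco, map_sum] at h2
    simp only [QCohLib.app_smul, ← hres, ← ha, smul_smul, ← Finset.sum_smul] at h2
    have h3 : ∑ i, b i * a i = val I t := hg1 h2
    rw [← (show val I t = c from ht), ← h3]
    exact Ideal.sum_mem _ fun i _ => Ideal.mul_mem_left _ _ (Ideal.subset_span ⟨i, rfl⟩)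

variable (k : Type u) [Field k] (n : ℕ)

local notation "P" => CohB1.ProjSpace n k
local notation "Tw" => Twist.twistProjSpace n k

theorem cl_twist_add (a b : ℤ) : cl (Tw (a + b)) = cl (Tw a) * cl (Tw b) := by
  rw [← cl_tensor]
  exact (cl_eq_iff.2 (PicPnLib.twist_add n k a b)).symm

theorem cl_twist_mul (d : ℤ) : ∀ p : ℕ, cl (Tw (d * (p : ℤ))) = cl (Tw d) ^ p
  | 0 => by
    rw [pow_zero, Nat.cast_zero, mul_zero]
    exact CubeConsLib.cl_eq_one_iff.2 (PicPnLib.twist_zero n k)
  | p + 1 => by
    rw [pow_succ, Nat.cast_succ, mul_add, mul_one, cl_twist_add, cl_twist_mul d p]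

/-- Linear bound for the regularity of the powers. -/
theorem exists_bound (I : (P).IdealSheafData) (d : ℤ)
    (hd : Curv2.IsGloballyGenerated (CohB1.tensorMod (ClSub.idealMod I) (Tw d))) :
    ∃ e : ℤ, ∀ p : ℕ, ∀ m : ℤ, d * (p : ℤ) + e ≤ m → Curv2.IsMRegular k n (ClSub.idealMod (I ^ p)) m := by
  haveI := MumfordLib.isProper_projSpace (n := n) k
  haveI := CurvLib.isNoetherian k (X := P)
  have hF : PicF.IsInvertible (Tw d) := PicPnLib.twist_inv n k d
  obtain ⟨r, s, hs⟩ := exists_gens hF I hd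
  obtain ⟨n₀, hn₀⟩ := GrSysLib.exists_uniform_vanishing (P ↘ Spec (CommRingCat.of k))
    (PicPnLib.twist_inv n k 1) (FormalCohLib.isAmple_twistProjSpace n k) r (sys hF hs) (isGenCoh_sys hF hs)
  refine ⟨(n₀ : ℤ) + n, fun p m hm i hi hin => ?_⟩
  obtain ⟨l, hl⟩ := Int.eq_ofNat_of_zero_le (show (0 : ℤ) ≤ m - i - d * (p : ℤ) by omega)
  refine SerreVanLib.subsingleton_HH_of_iso (Classical.choice (cl_eq_iff.1 ?_)) i (hn₀ l (by omega) p i (by omega))
  symm
  show cl (CohB1.tensorMod (CohB1.tensorPow (Tw 1) l) (term I (Tw d) p)) =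
    cl (CohB1.tensorMod (ClSub.idealMod (I ^ p)) (Tw (m - i)))
  have e1 : cl (CohB1.tensorPow (Tw 1) l) = cl (Tw (l : ℤ)) := cl_eq_iff.2 (PnCohLib.tensorPow_twist l)
  rw [cl_tensor, cl_tensor, cl_tensor, e1, NumTrivLib.cl_tensorPow, ← cl_twist_mul k n d p, mul_left_comm,
    ← cl_twist_add, show (l : ℤ) + d * (p : ℤ) = m - i by omega]

end PowRegLib

end
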