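import Groth.Agent.GrSysLib.Sheaf
import Groth.Agent.SurfExtLib.CBGeom
import Groth.Agent.SerreVanLib.CurveAmple
import Groth.Agent.ExtTwistLib.Basic
import Groth.Agent.HilbPolyLib.Twist
import Groth.Agent.IntMultLib.Cartier
import Groth.Agent.GenFlatStrat.FGExtend
import Groth.Agent.GrTildeLib.TensLift
import Groth.Agent.NefH1Lib.Koszul

/-!
# The powers of an ideal sheaf as an eventually generated system

For an invertible module `F` and global sections generating `I ⊗ F`, the modules `I ^ p ⊗ F ^ p` with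
multiplication by the sections form a system generated in bounded degree.
-/

set_option autoImplicit false
set_option linter.style.haveILetI false
set_option maxHeartbeats 1000000
set_option backward.isDefEq.respectTransparency false
set_option backward.isDefEq.respectTransparency.types false
universe u

open CategoryTheory CategoryTheory.Limits AlgebraicGeometry TopologicalSpace Opposite
open AmpleLib (shT res GenOn)
open AmpleThLib (pS pS_genOn)

noncomputable section

namespace PowRegLib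

variable {X : Scheme.{u}}

/-- The value of a section of an ideal module. -/
def val (J : X.IdealSheafData) {V : X.Opens} (t : Γ(ClSub.idealMod J, V)) : Γ(X, V) :=
  (ClSub.idealModι J).app V t

theorem val_res (J : X.IdealSheafData) {U V : X.Opens} (h : V ≤ U) (t : Γ(ClSub.idealMod J, U)) :
    val J (res (ClSub.idealMod J) h t) = X.presheaf.map (homOfLE h).op (val J t) :=
  QCohLib.app_map (ClSub.idealModι J) (homOfLE h) t

theorem val_add (J : X.IdealSheafData) {V : X.Opens} (t t' : Γ(ClSub.idealMod J, V)) :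
    val J (t + t') = val J t + val J t' := map_add _ t t'

theorem val_smul (J : X.IdealSheafData) {V : X.Opens} (r : Γ(X, V)) (t : Γ(ClSub.idealMod J, V)) :
    val J (r • t) = r * val J t := IntMultLib.idealModι_smul J V r t

theorem val_injective (J : X.IdealSheafData) (V : X.Opens) :
    Function.Injective (val J : Γ(ClSub.idealMod J, V) → Γ(X, V)) :=
  IntMultLib.idealModι_app_injective J V

theorem exists_valHom (J : X.IdealSheafData) (N : X.Modules) :
    ∃ φ : CohB1.tensorMod (ClSub.idealMod J) N ⟶ N,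
      ∀ (V : X.Opens) (t : Γ(ClSub.idealMod J, V)) (u : Γ(N, V)), φ.app V (shT t u) = val J t • u :=
  GrTildeLib.exists_tens_hom (M := ClSub.idealMod J) (N := N) (P := N) (fun V t u => val J t • u)
    (fun V t t' u => by rw [val_add, add_smul]) (fun V t u u' => smul_add _ _ _)
    (fun V r t u => by rw [val_smul, mul_smul]) (fun V r t u => smul_comm _ _ _)
    (fun V W h t u => by rw [AmpleLib.res_smul, val_res])

/-- The inclusion `J ⊗ N ⟶ N`. -/
def valHom (J : X.IdealSheafData) (N : X.Modules) : CohB1.tensorMod (ClSub.idealMod J) N ⟶ N :=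
  (exists_valHom J N).choose

theorem valHom_shT (J : X.IdealSheafData) (N : X.Modules) {V : X.Opens} (t : Γ(ClSub.idealMod J, V)) (u : Γ(N, V)) :
    (valHom J N).app V (shT t u) = val J t • u :=
  (exists_valHom J N).choose_spec V t u

/-- An affine open with a generator of `F`. -/
structure Good (F : X.Modules) where
  W : X.affineOpens
  e : Γ(F, W.1)
  gen : GenOn F e

variable {F : X.Modules} (hF : PicF.IsInvertible F)

include hF in
theorem exists_good {V : X.Opens} {x : X} (hx : x ∈ V) : ∃ G : Good F, x ∈ G.W.1 ∧ G.W.1 ≤ V := by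
  obtain ⟨U, e, hxU, he⟩ := TwistLib.exists_genOn hF x
  obtain ⟨W, hW, hxW, hle⟩ := exists_isAffineOpen_mem_and_subset (x := x) (U := U ⊓ V) ⟨hxU, hx⟩
  exact ⟨⟨⟨W, hW⟩, res F (fun y hy => (hle hy).1) e, he.res _⟩, hxW, fun y hy => (hle hy).2⟩

include hF in
/-- Morphisms agreeing on good affines are equal. -/
theorem hom_ext_good {M N : X.Modules} {φ ψ : M ⟶ N}
    (h : ∀ (G : Good F) (t : Γ(M, G.W.1)), φ.app G.W.1 t = ψ.app G.W.1 t) : φ = ψ := by
  apply Scheme.Modules.hom_ext
  intro V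
  refine ConcreteCategory.hom_ext _ _ fun t => TwistLib.mod_ext N fun x hx => ?_
  obtain ⟨G, hxG, hle⟩ := exists_good hF hx
  rw [← AmpleLib.germ_res N hle (φ.app V t) (x := x) hxG, ← AmpleLib.germ_res N hle (ψ.app V t) (x := x) hxG]
  congr 1
  change N.presheaf.map _ _ = N.presheaf.map _ _
  rw [← QCohLib.app_map φ, ← QCohLib.app_map ψ]
  exact h G _

theorem valHom_injective (J : X.IdealSheafData) (G : Good F) (p : ℕ) :
    Function.Injective ((valHom J (CohB1.tensorPow F p)).app G.W.1) := by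
  intro a b hab
  obtain ⟨t, rfl⟩ := (ExtTwistLib.shT_right_bijective (pS_genOn G.gen p)).2 a
  obtain ⟨t', rfl⟩ := (ExtTwistLib.shT_right_bijective (pS_genOn G.gen p)).2 b
  simp only [valHom_shT] at hab
  have h : val J t = val J t' := (pS_genOn G.gen p G.W.1 le_rfl).1 (by simpa only [AmpleLib.res_refl] using hab)
  rw [val_injective J G.W.1 h]

include hF in
theorem mono_valHom (J : X.IdealSheafData) (p : ℕ) : Mono (valHom J (CohB1.tensorPow F p)) :=
  ⟨fun g h w => hom_ext_good hF fun G t => valHom_injective J G p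
    (congrArg (fun φ => φ.app G.W.1 t) w)⟩

/-- Sections of `J ⊗ F ^ p` on good affines. -/
theorem exists_val (J : X.IdealSheafData) (G : Good F) (p : ℕ) (a : Γ(CohB1.tensorMod (ClSub.idealMod J) (CohB1.tensorPow F p), G.W.1)) :
    ∃ r ∈ J.ideal G.W, (valHom J (CohB1.tensorPow F p)).app G.W.1 a = r • pS G.e p := by
  obtain ⟨t, rfl⟩ := (ExtTwistLib.shT_right_bijective (pS_genOn G.gen p)).2 a
  exact ⟨val J t, GenFlatStrat.idealModι_mem J G.W t, valHom_shT J _ t _⟩

theorem exists_preimage (J : X.IdealSheafData) (G : Good F) (p : ℕ) {r : Γ(X, G.W.1)} (hr : r ∈ J.ideal G.W) :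
    ∃ a, (valHom J (CohB1.tensorPow F p)).app G.W.1 a = r • pS G.e p := by
  obtain ⟨t, ht⟩ := GenFlatStrat.exists_idealMod_section J G.W r hr
  exact ⟨shT t (pS G.e p), (valHom_shT J _ t _).trans (congrArg (· • pS G.e p) ht)⟩

theorem unitHom_one {P : X.Modules} (σ : Γ(P, ⊤)) (V : X.Opens) :
    (QCohLib.unitHom P σ).app V (show Γ(Coh.structureModule X, V) from (1 : Γ(X, V))) =
      res P (le_top : V ≤ ⊤) σ := by
  rw [QCohLib.unitHom_app]
  exact one_smul Γ(X, V) _

theorem exists_mulHom {N P : X.Modules} (σ : Γ(P, ⊤)) :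
    ∃ φ : N ⟶ CohB1.tensorMod N P,
      ∀ (V : X.Opens) (a : Γ(N, V)), φ.app V a = shT a (res P (le_top : V ≤ ⊤) σ) := by
  obtain ⟨u, hu, hu'⟩ := SerreVanLib.exists_unit_iso N
  refine ⟨inv u ≫ SerreVanLib.tmap N (QCohLib.unitHom P σ), fun V a => ?_⟩
  have h2 : u.app V (shT a (show Γ(Coh.structureModule X, V) from (1 : Γ(X, V)))) = a :=
    (hu' V a _).trans (one_smul Γ(X, V) a)
  have h1 : (inv u).app V a = shT a (show Γ(Coh.structureModule X, V) from (1 : Γ(X, V))) := by
    have h3 := congrArg ((inv u).app V) h2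
    rw [← ConcreteCategory.comp_apply, ← Scheme.Modules.Hom.comp_app, IsIso.hom_inv_id] at h3
    exact h3.symm
  rw [Scheme.Modules.Hom.comp_app, ConcreteCategory.comp_apply, h1]
  exact (KFlatLib.tensorBi_map₂_shTm N (QCohLib.unitHom P σ) a _).trans (congrArg (shT a) (unitHom_one σ V))

variable {r : ℕ} (s : Fin r → Γ(F, ⊤))

/-- Multiplication by a section. -/
def mulS (p : ℕ) (i : Fin r) : CohB1.tensorPow F p ⟶ CohB1.tensorPow F (p + 1) :=
  (exists_mulHom (N := CohB1.tensorPow F p) (s i)).choose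

theorem mulS_app {G : Good F} {a : Γ(X, G.W.1)} {i : Fin r} (ha : a • G.e = res F le_top (s i)) (p : ℕ)
    (c : Γ(X, G.W.1)) :
    (mulS s p i).app G.W.1 (c • pS G.e p) = (c * a) • pS G.e (p + 1) := by
  refine ((exists_mulHom (N := CohB1.tensorPow F p) (s i)).choose_spec _ _).trans ?_
  rw [← ha]
  exact AmpleLib.shT_smul c a (pS G.e p) G.e

theorem exists_coord (G : Good F) (i : Fin r) : ∃ a : Γ(X, G.W.1), a • G.e = res F le_top (s i) := by
  obtain ⟨a, ha⟩ := (G.gen G.W.1 le_rfl).2 (res F le_top (s i))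
  exact ⟨a, by simpa only [AmpleLib.res_refl] using ha⟩

/-- The ideal is generated by the coordinates of the sections. -/
def Gens (I : X.IdealSheafData) : Prop :=
  ∀ (G : Good F) (a : Fin r → Γ(X, G.W.1)), (∀ i, a i • G.e = res F le_top (s i)) →
    Ideal.span (Set.range a) = I.ideal G.W

variable {s} {I : X.IdealSheafData} (hI : Gens s I)

/-- The terms of the system. -/
abbrev term (I : X.IdealSheafData) (F : X.Modules) (p : ℕ) : X.Modules :=
  CohB1.tensorMod (ClSub.idealMod (I ^ p)) (CohB1.tensorPow F p)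

theorem mul_mem_pow (G : Good F) {p : ℕ} {c a : Γ(X, G.W.1)} (hc : c ∈ (I ^ p).ideal G.W) (ha : a ∈ I.ideal G.W) :
    c * a ∈ (I ^ (p + 1)).ideal G.W := by
  simp only [Scheme.IdealSheafData.ideal_pow, Pi.pow_apply] at hc ⊢
  rw [pow_succ]
  exact Ideal.mul_mem_mul hc ha

include hF hI in
theorem mulS_cokernel (p : ℕ) (i : Fin r) :
    (valHom (I ^ p) (CohB1.tensorPow F p) ≫ mulS s p i) ≫
      cokernel.π (valHom (I ^ (p + 1)) (CohB1.tensorPow F (p + 1))) = 0 := by
  refine hom_ext_good hF fun G t => ?_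
  choose a ha using exists_coord s G
  have hai : a i ∈ I.ideal G.W := hI G a ha ▸ Ideal.subset_span ⟨i, rfl⟩
  obtain ⟨c, hc, e⟩ := exists_val (I ^ p) G p t
  obtain ⟨t', ht'⟩ := exists_preimage (I ^ (p + 1)) G (p + 1) (mul_mem_pow G hc hai)
  refine (congrArg (fun z => (cokernel.π (valHom (I ^ (p + 1)) (CohB1.tensorPow F (p + 1)))).app G.W.1 z)
    (show (valHom (I ^ p) (CohB1.tensorPow F p) ≫ mulS s p i).app G.W.1 t =
      (valHom (I ^ (p + 1)) (CohB1.tensorPow F (p + 1))).app G.W.1 t' from ?_)).trans ?_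
  · rw [ht', ← mulS_app s (ha i) p c, ← e]
    rfl
  · exact congrArg (fun φ : term I F (p + 1) ⟶ cokernel (valHom (I ^ (p + 1)) (CohB1.tensorPow F (p + 1))) => φ.app G.W.1 t')
      (cokernel.condition (valHom (I ^ (p + 1)) (CohB1.tensorPow F (p + 1))))

/-- The operators. -/
def op' (p : ℕ) (i : Fin r) : term I F p ⟶ term I F (p + 1) :=
  haveI := mono_valHom hF (I ^ (p + 1)) (p + 1)
  Abelian.monoLift (valHom (I ^ (p + 1)) (CohB1.tensorPow F (p + 1)))
    (valHom (I ^ p) (CohB1.tensorPow F p) ≫ mulS s p i) (mulS_cokernel hF hI p i)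

theorem op'_ι (p : ℕ) (i : Fin r) :
    op' hF hI p i ≫ valHom (I ^ (p + 1)) (CohB1.tensorPow F (p + 1)) =
      valHom (I ^ p) (CohB1.tensorPow F p) ≫ mulS s p i :=
  haveI := mono_valHom hF (I ^ (p + 1)) (p + 1)
  Abelian.monoLift_comp _ _ _

include hF in
theorem mulS_comm (p : ℕ) (i j : Fin r) : mulS s p j ≫ mulS s (p + 1) i = mulS s p i ≫ mulS s (p + 1) j := by
  refine hom_ext_good hF fun G t => ?_
  choose a ha using exists_coord s G
  obtain ⟨c, hc⟩ := (pS_genOn G.gen p G.W.1 le_rfl).2 t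
  obtain rfl : c • pS G.e p = t := by simpa only [AmpleLib.res_refl] using hc
  show (mulS s (p + 1) i).app G.W.1 ((mulS s p j).app G.W.1 (c • pS G.e p)) =
    (mulS s (p + 1) j).app G.W.1 ((mulS s p i).app G.W.1 (c • pS G.e p))
  rw [mulS_app s (ha j), mulS_app s (ha i), mulS_app s (ha i), mulS_app s (ha j), mul_right_comm]

/-- The system `p ↦ I ^ p ⊗ F ^ p`. -/
def sys : GrSysLib.SSys X r where
  C p := term I F p
  t i p := op' hF hI p i
  comm i j p := by
    haveI := mono_valHom hF (I ^ (p + 1 + 1)) (p + 1 + 1)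
    rw [← cancel_mono (valHom (I ^ (p + 1 + 1)) (CohB1.tensorPow F (p + 1 + 1))), Category.assoc, Category.assoc,
      op'_ι, op'_ι, ← Category.assoc, ← Category.assoc, op'_ι, op'_ι, Category.assoc, Category.assoc, mulS_comm hF]

variable [IsLocallyNoetherian X]

include hF in
theorem isCoh_term (p : ℕ) : Coh.IsCoh (term I F p) :=
  SerreVanLib.isCoh_tensor (SurfExtLib.isCoh_idealMod _) (AmpleThLib.tensorPow_isInvertible hF p)

/-- The system is generated in bounded degree. -/
theorem isGenCoh_sys : (sys hF hI).IsGenCoh := by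
  refine ⟨fun p => isCoh_term hF p, 0, fun p _ => ?_⟩
  haveI : Coh.IsQCoh ((sys hF hI).C (p + 1)) := (isCoh_term hF (p + 1)).1
  refine GrSysLib.epi_of_surjective_on_cover _ (fun G : Good F => G.W.1) (fun G => G.W.2)
    (fun x => (exists_good hF (V := ⊤) (Opens.mem_top x)).imp fun G h => h.1) fun G x => ?_
  choose a ha using exists_coord s G
  obtain ⟨c, hc, e⟩ := exists_val (I ^ (p + 1)) G (p + 1) x
  have hc' : c ∈ Ideal.span (Set.range a) * (I ^ p).ideal G.W := by
    rw [hI G a ha]
    simp only [Scheme.IdealSheafData.ideal_pow, Pi.pow_apply] at hc ⊢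
    rwa [← pow_succ']
  have hsum : ∃ y : Fin r → Γ(X, G.W.1), (∀ i, y i ∈ (I ^ p).ideal G.W) ∧ ∑ i, y i * a i = c := by
    refine Submodule.mul_induction_on hc' (fun m hm n hn => ?_) ?_
    · obtain ⟨d, rfl⟩ := Ideal.mem_span_range_iff_exists_fun.1 hm
      exact ⟨fun i => n * d i, fun i => Ideal.mul_mem_right _ _ hn, by
        rw [Finset.sum_mul]; exact Finset.sum_congr rfl fun i _ => by ring⟩
    · rintro u v ⟨y, hy, rfl⟩ ⟨z, hz, rfl⟩
      exact ⟨y + z, fun i => Ideal.add_mem _ (hy i) (hz i), by simp [add_mul, Finset.sum_add_distrib]⟩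
  obtain ⟨y, hy, hyc⟩ := hsum
  choose z hz using fun i => exists_preimage (I ^ p) G p (hy i)
  refine ⟨∑ i, (biproduct.ι (fun _ : Fin r => (sys hF hI).C p) i).app G.W.1 (z i), ?_⟩
  refine valHom_injective (I ^ (p + 1)) G (p + 1) ?_
  rw [e, ← hyc, Finset.sum_smul, map_sum]
  refine (map_sum ((valHom (I ^ (p + 1)) (CohB1.tensorPow F (p + 1))).app G.W.1).hom _ _).trans
    (Finset.sum_congr rfl fun i _ => ?_)
  rw [← mulS_app s (ha i) p (y i), ← hz i]
  exact congrArg (fun φ => φ.app G.W.1 (z i))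
    (show (biproduct.ι (fun _ : Fin r => (sys hF hI).C p) i ≫ (sys hF hI).sumMap p) ≫
        valHom (I ^ (p + 1)) (CohB1.tensorPow F (p + 1)) =
      valHom (I ^ p) (CohB1.tensorPow F p) ≫ mulS s p i by
      rw [GrSysLib.SSys.ι_sumMap]; exact op'_ι hF hI p i)

end PowRegLib

end
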